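import Mathlib

/-! # finiteness near a minimal prime with finite fibre -/

universe u

open TensorProduct Polynomial

namespace Groth.Agent.GenFibre

variable {A B : Type u} [CommRing A] [CommRing B] [Algebra A B] [Algebra.FiniteType A B]

theorem exists_smul_integral (p : Ideal A) [p.IsPrime] (hp : p ∈ minimalPrimes A)
    (hfin : (PrimeSpectrum.comap (algebraMap A B) ⁻¹' {⟨p, ‹_›⟩}).Finite) (b : B) :
    ∃ s ∉ p, ∃ R : A[X], R.Monic ∧ ∃ t ∉ p, t • aeval (s • b) R = 0 := by
  let Aₚ := Localization.AtPrime p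
  let T := Aₚ ⊗[A] B
  let κ := p.ResidueField
  let C := p.Fiber B
  have hC : Module.Finite κ C := by
    rw [Module.finite_iff_isArtinianRing, isArtinianRing_iff_isNoetherianRing_krullDimLE_zero]
    have : IsJacobsonRing C := isJacobsonRing_of_finiteType (A := κ)
    have : Finite (PrimeSpectrum C) :=
      (PrimeSpectrum.preimageEquivFiber A B ⟨p, ‹_›⟩).finite_iff.mp hfin
    exact ⟨Algebra.FiniteType.isNoetherianRing κ _,
      (PrimeSpectrum.discreteTopology_iff_finite_and_krullDimLE_zero.mp inferInstance).right⟩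
  obtain ⟨q, hqm, hq0⟩ := Algebra.IsIntegral.isIntegral (R := κ) ((1 : κ) ⊗ₜ[A] b : C)
  let res : Aₚ →+* κ := IsLocalRing.residue Aₚ
  obtain ⟨Q, hQ, -, hQm⟩ := lifts_and_degree_eq_and_monic (f := res) (p := q)
    ((mem_lifts _).2 (Polynomial.map_surjective res Ideal.Quotient.mk_surjective q)) hqm
  have hnil : IsNilpotent (aeval ((1 : Aₚ) ⊗ₜ[A] b : T) Q) := by
    rw [← mem_nilradical, nilradical_eq_sInf, Submodule.mem_sInf]
    intro (P : Ideal T) (hP : P.IsPrime)
    haveI : P.IsPrime := hP
    have hPm : P.comap (algebraMap Aₚ T) = IsLocalRing.maximalIdeal Aₚ := by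
      set M := P.comap (algebraMap Aₚ T)
      have hMp : M.comap (algebraMap A Aₚ) = p := by
        have hle : M.comap (algebraMap A Aₚ) ≤ p := by
          refine (Ideal.comap_mono (IsLocalRing.le_maximalIdeal (Ideal.IsPrime.ne_top (inferInstance : M.IsPrime)))).trans ?_
          exact (IsLocalization.AtPrime.comap_maximalIdeal Aₚ p).le
        exact le_antisymm hle (hp.2 ⟨inferInstance, bot_le⟩ hle)
      rw [← IsLocalization.map_comap p.primeCompl Aₚ M, Ideal.under_def, hMp,
        Localization.AtPrime.map_eq_maximalIdeal]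
    let ψ : T →ₐ[A] P.ResidueField := IsScalarTower.toAlgHom A T P.ResidueField
    let χ : κ →ₐ[A] P.ResidueField :=
      { Ideal.Quotient.lift (IsLocalRing.maximalIdeal Aₚ)
          ((algebraMap T P.ResidueField).comp (algebraMap Aₚ T)) (fun x hx => by
            rw [← hPm, Ideal.mem_comap] at hx
            exact Ideal.algebraMap_residueField_eq_zero.2 hx) with
        commutes' := fun a => by
          change ((algebraMap T P.ResidueField).comp (algebraMap Aₚ T)) (algebraMap A Aₚ a) = _
          rw [RingHom.comp_apply, ← IsScalarTower.algebraMap_apply A Aₚ T,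
            ← IsScalarTower.algebraMap_apply A T P.ResidueField] }
    let Φ : C →ₐ[A] P.ResidueField := Algebra.TensorProduct.lift χ
      (ψ.comp Algebra.TensorProduct.includeRight) (fun _ _ => Commute.all _ _)
    have h1 : Φ (eval₂ (algebraMap κ C) ((1 : κ) ⊗ₜ[A] b) q) =
        algebraMap T P.ResidueField (aeval ((1 : Aₚ) ⊗ₜ[A] b : T) Q) := by
      rw [← hQ, eval₂_map, ← AlgHom.coe_toRingHom, hom_eval₂, aeval_def, hom_eval₂]
      congr 1
      · ext a
        change Φ ((res a : κ) ⊗ₜ[A] (1 : B)) = _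
        rw [Algebra.TensorProduct.lift_tmul, map_one, mul_one]
        rfl
      · change Φ _ = _
        rw [Algebra.TensorProduct.lift_tmul, map_one, one_mul]
        rfl
    rw [hq0, map_zero] at h1
    exact Ideal.algebraMap_residueField_eq_zero.1 h1.symm
  obtain ⟨k, hk⟩ := hnil
  have hint : IsIntegral Aₚ ((1 : Aₚ) ⊗ₜ[A] b : T) :=
    ⟨Q ^ k, hQm.pow k, by rw [← aeval_def, map_pow, hk]⟩
  obtain ⟨⟨s, hs⟩, R, hR, hR0⟩ := hint.exists_multiple_integral_of_isLocalization p.primeCompl
  refine ⟨s, hs, R, hR, ?_⟩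
  have h2 : (TensorProduct.mk A Aₚ B 1) (aeval (s • b) R) = 0 := by
    change (Algebra.TensorProduct.includeRight : B →ₐ[A] T) (aeval (s • b) R) = 0
    rw [← aeval_algHom_apply, map_smul, Algebra.TensorProduct.includeRight_apply, aeval_def]
    exact hR0
  obtain ⟨⟨t, ht⟩, ht0⟩ := (IsLocalizedModule.eq_zero_iff p.primeCompl (TensorProduct.mk A Aₚ B 1)).1 h2
  exact ⟨t, ht, ht0⟩

/-- A finite type algebra with finite fibre over a minimal prime is finite near it. -/
theorem exists_away_finite (p : Ideal A) [p.IsPrime] (hp : p ∈ minimalPrimes A)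
    (hfin : (PrimeSpectrum.comap (algebraMap A B) ⁻¹' {⟨p, ‹_›⟩}).Finite) :
    ∃ a ∉ p, ∀ (L : Type u) [CommRing L] [Algebra A L] [IsLocalization.Away a L],
      Module.Finite L (L ⊗[A] B) := by
  classical
  obtain ⟨G, hG⟩ := Algebra.FiniteType.out (R := A) (A := B)
  choose s hs R hR t ht ht0 using exists_smul_integral p hp hfin
  refine ⟨∏ b ∈ G, s b * t b, fun h => ?_, fun L _ _ _ => ?_⟩
  · obtain ⟨b, -, hb⟩ := (‹p.IsPrime›.prod_mem_iff).1 h
    exact (‹p.IsPrime›.mem_or_mem hb).elim (hs b) (ht b)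
  set a := ∏ b ∈ G, s b * t b
  let ι : B →ₐ[A] L ⊗[A] B := Algebra.TensorProduct.includeRight
  have hgen : ∀ b : B, b ∈ ((integralClosure L (L ⊗[A] B)).restrictScalars A).comap ι := by
    suffices h : (⊤ : Subalgebra A B) ≤ ((integralClosure L (L ⊗[A] B)).restrictScalars A).comap ι
      from fun b => h trivial
    rw [← hG, Algebra.adjoin_le_iff]
    intro b hb
    have hu : IsUnit (algebraMap A L (s b * t b)) :=
      isUnit_of_dvd_unit (map_dvd _ (Finset.dvd_prod_of_mem (fun b => s b * t b) hb))
        (IsLocalization.Away.algebraMap_isUnit a)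
    rw [map_mul, IsUnit.mul_iff] at hu
    have h0 : aeval (s b • ι b) (R b) = 0 := by
      rw [← map_smul, aeval_algHom_apply]
      have := congrArg ι (ht0 b)
      rw [map_smul, map_zero, ← algebraMap_smul L (t b), hu.2.smul_eq_zero] at this
      exact this
    have h1 : IsIntegral A (s b • ι b) := ⟨R b, hR b, h0⟩
    have h2 : IsIntegral L (s b • ι b) := h1.tower_top
    show IsIntegral L (ι b)
    have := h2.smul (↑hu.1.unit⁻¹ : L)
    rwa [← algebraMap_smul L (s b) (ι b), smul_smul, IsUnit.val_inv_mul, one_smul] at this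
  haveI : Algebra.IsIntegral L (L ⊗[A] B) := ⟨fun z => by
    induction z using TensorProduct.induction_on with
    | zero => exact isIntegral_zero
    | tmul l b =>
      have := (show IsIntegral L (ι b) from hgen b).smul l
      rwa [Algebra.TensorProduct.includeRight_apply, TensorProduct.smul_tmul', smul_eq_mul, mul_one] at this
    | add x y hx hy => exact hx.add hy⟩
  exact Algebra.IsIntegral.finite

end Groth.Agent.GenFibre
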