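import Groth.Agent.GenFibre.Basic
import Groth.Agent.GenFibre.Ring
import Groth.Agent.FpqcDescent.Immersion
import Groth.Agent.WeakAssLib.Basic

/-! # a morphism with finite fibre over a maximal point is finite near it -/

set_option autoImplicit false
set_option backward.isDefEq.respectTransparency false

universe u

open CategoryTheory CategoryTheory.Limits AlgebraicGeometry TopologicalSpace

namespace Groth.Agent.GenFibre

variable {X Y : Scheme.{u}} (f : X ⟶ Y) [LocallyOfFiniteType f] [QuasiCompact f]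

omit [LocallyOfFiniteType f] in
/-- Opens containing the fibre over a maximal point contain a neighbourhood of the fibre. -/
theorem exists_preimage_le {η : Y} (hη : Unibranch.IsMaxPt η) (W : X.Opens)
    (hW : ∀ x, f x = η → x ∈ W) : ∃ V : Y.Opens, η ∈ V ∧ f ⁻¹ᵁ V ≤ W := by
  let I := Scheme.IdealSheafData.vanishingIdeal (X := X) ⟨(W : Set X)ᶜ, W.2.isClosed_compl⟩
  have hr : Set.range I.subschemeι = (W : Set X)ᶜ := by
    rw [I.range_subschemeι]
    exact Scheme.IdealSheafData.coe_support_vanishingIdeal _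
  refine ⟨⟨(closure (Set.range (I.subschemeι ≫ f)))ᶜ, isClosed_closure.isOpen_compl⟩, fun h => ?_,
    fun x hx => by_contra fun hxW => hx ?_⟩
  · obtain ⟨z, hz⟩ := FpqcDescent.exists_specializes_of_mem_closure (I.subschemeι ≫ f) h
    have h1 : f (I.subschemeι z) = η := hη _ hz
    exact (hr.subset ⟨z, rfl⟩) (hW _ h1)
  · obtain ⟨z, hz⟩ := hr.superset hxW
    exact subset_closure ⟨z, by rw [← hz]; rfl⟩

open scoped Function in
/-- The core statement: disjoint affines around the points of the fibre. -/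
theorem exists_finite_nhd_of_disjoint {η : Y} (hη : Unibranch.IsMaxPt η)
    (hfin : (f.base ⁻¹' {η}).Finite) {V₀ : Y.Opens} (hV₀ : IsAffineOpen V₀) (hηV : η ∈ V₀)
    (U : (f.base ⁻¹' {η} : Set X) → X.Opens) (hU : ∀ x, IsAffineOpen (U x))
    (hUV : ∀ x, U x ≤ f ⁻¹ᵁ V₀) (hxU : ∀ x, x.1 ∈ U x)
    (N : Y.Opens) (hN : η ∈ N) (hdisj : Pairwise (Disjoint on fun x => U x ⊓ f ⁻¹ᵁ N)) :
    ∃ V : Y.Opens, IsAffineOpen V ∧ η ∈ V ∧ V ≤ N ∧ IsFinite (f ∣_ V) := by
  haveI := hfin.to_subtype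
  obtain ⟨V', hηV', hV'W⟩ := exists_preimage_le f hη (⨆ x, U x) fun x hx =>
    Opens.mem_iSup.2 ⟨⟨x, hx⟩, hxU ⟨x, hx⟩⟩
  obtain ⟨a, haV, hηa⟩ := hV₀.exists_basicOpen_le (V := V' ⊓ N) ⟨η, hηV', hN⟩ hηV
  set V1 := Y.basicOpen a with hV1
  have hV1aff : IsAffineOpen V1 := hV₀.basicOpen a
  have hUx : ∀ x, IsAffineOpen (U x ⊓ f ⁻¹ᵁ V1) := fun x => by
    have := (hU x).basicOpen ((f.appLE V₀ (U x) (hUV x)).hom a)
    rwa [Scheme.basicOpen_appLE] at this
  have hpre : f ⁻¹ᵁ V1 = ⨆ x, (U x ⊓ f ⁻¹ᵁ V1) := by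
    rw [← iSup_inf_eq, inf_eq_right.2 ((Scheme.Hom.preimage_mono _ (haV.trans inf_le_left)).trans hV'W)]
  have hX1 : IsAffineOpen (f ⁻¹ᵁ V1) := by
    rw [hpre]
    exact IsAffineOpen.iSup_of_disjoint hUx fun i j hij => (hdisj hij).mono
      (inf_le_inf_left _ (Scheme.Hom.preimage_mono _ (haV.trans inf_le_right)))
      (inf_le_inf_left _ (Scheme.Hom.preimage_mono _ (haV.trans inf_le_right)))
  let A := Γ(Y, V1)
  let B := Γ(X, f ⁻¹ᵁ V1)
  letI : Algebra A B := (f.app V1).hom.toAlgebra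
  haveI : Algebra.FiniteType A B := by
    have := HasRingHomProperty.appLE @LocallyOfFiniteType f inferInstance ⟨V1, hV1aff⟩ ⟨_, hX1⟩ le_rfl
    rw [← Scheme.Hom.app_eq_appLE] at this
    exact this
  let q := hV1aff.primeIdealOf ⟨η, hηa⟩
  have hmin : q.asIdeal ∈ minimalPrimes A := by
    refine ⟨⟨q.isPrime, bot_le⟩, fun J hJ hle => ?_⟩
    haveI := hJ.1
    let r : PrimeSpectrum A := ⟨J, hJ.1⟩
    have h1 : hV1aff.fromSpec r ⤳ hV1aff.fromSpec q :=
      ((PrimeSpectrum.le_iff_specializes r q).1 hle).map hV1aff.fromSpec.continuous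
    rw [hV1aff.fromSpec_primeIdealOf] at h1
    have h2 := hη _ h1
    have h3 : r = q := hV1aff.fromSpec.isOpenEmbedding.injective
      (h2.trans (hV1aff.fromSpec_primeIdealOf ⟨η, hηa⟩).symm)
    exact (congrArg PrimeSpectrum.asIdeal h3).ge
  have hfin' : (PrimeSpectrum.comap (algebraMap A B) ⁻¹' {⟨q.asIdeal, q.isPrime⟩}).Finite := by
    refine Set.Finite.of_finite_image (f := hX1.fromSpec) (hfin.subset ?_)
      hX1.fromSpec.isOpenEmbedding.injective.injOn
    rintro _ ⟨P, hP, rfl⟩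
    change f (hX1.fromSpec P) = η
    rw [← Scheme.Hom.comp_apply, ← hV1aff.SpecMap_appLE_fromSpec f hX1 le_rfl, Scheme.Hom.comp_apply,
      ← Scheme.Hom.app_eq_appLE]
    exact (congrArg hV1aff.fromSpec hP).trans (hV1aff.fromSpec_primeIdealOf ⟨η, hηa⟩)
  obtain ⟨b, hb, hbfin⟩ := exists_away_finite q.asIdeal hmin hfin'
  refine ⟨Y.basicOpen b, hV1aff.basicOpen b, (WeakAssLib.mem_primeIdealOf hV1aff hηa b).2 hb,
    (Y.basicOpen_le b).trans (haV.trans inf_le_right), ?_⟩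
  have hpre' : f ⁻¹ᵁ Y.basicOpen b = X.basicOpen ((f.app V1).hom b) := Scheme.preimage_basicOpen f b
  have hX2 : IsAffineOpen (f ⁻¹ᵁ Y.basicOpen b) := by rw [hpre']; exact hX1.basicOpen _
  let A' := Γ(Y, Y.basicOpen b)
  let B' := Γ(X, f ⁻¹ᵁ Y.basicOpen b)
  letI : Algebra A A' := (Y.presheaf.map (homOfLE (Y.basicOpen_le b)).op).hom.toAlgebra
  letI : Algebra B B' := (X.presheaf.map (homOfLE
    (Scheme.Hom.preimage_mono f (Y.basicOpen_le b))).op).hom.toAlgebra
  letI : Algebra A' B' := (f.app (Y.basicOpen b)).hom.toAlgebra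
  letI : Algebra A B' := ((algebraMap B B').comp (algebraMap A B)).toAlgebra
  haveI : IsScalarTower A B B' := IsScalarTower.of_algebraMap_eq' rfl
  haveI : IsScalarTower A A' B' := IsScalarTower.of_algebraMap_eq' (by
    exact congrArg CommRingCat.Hom.hom (f.naturality (homOfLE (Y.basicOpen_le b)).op).symm)
  haveI : IsLocalization.Away b A' := hV1aff.isLocalization_basicOpen b
  haveI : IsLocalization (Algebra.algebraMapSubmonoid B (Submonoid.powers b)) B' := by
    rw [Algebra.algebraMapSubmonoid, Submonoid.map_powers]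
    exact hX1.isLocalization_of_eq_basicOpen ((f.app V1).hom b)
      (homOfLE (Scheme.Hom.preimage_mono f (Y.basicOpen_le b))) hpre'
  haveI : Algebra.IsPushout A A' B B' :=
    (Algebra.isPushout_of_isLocalization (Submonoid.powers b) A' B B').symm
  haveI := hbfin A'
  have hfin2 : Module.Finite A' B' := Module.Finite.equiv (Algebra.IsPushout.equiv A A' B B').toLinearEquiv
  have h2 : (f.app (Y.basicOpen b)).hom.Finite := hfin2
  haveI : IsAffine (Y.basicOpen b).toScheme := hV1aff.basicOpen b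
  rw [HasAffineProperty.iff_of_isAffine (P := @IsFinite)]
  refine ⟨hX2, ?_⟩
  rw [← Scheme.Hom.resLE_eq_morphismRestrict]
  rw [Scheme.Hom.app_eq_appLE] at h2
  haveI : (RingHom.toMorphismProperty fun {R S} [CommRing R] [CommRing S] => @RingHom.Finite R S _ _).RespectsIso :=
    RingHom.toMorphismProperty_respectsIso_iff.mp RingHom.finite_respectsIso
  exact ((RingHom.toMorphismProperty fun {R S} [CommRing R] [CommRing S] => @RingHom.Finite R S _ _).arrow_mk_iso_iff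
    (arrowResLEAppIso f (Y.basicOpen b) (f ⁻¹ᵁ Y.basicOpen b) le_rfl)).mpr h2

/-- A finite fibre over a maximal point: finite over an affine neighbourhood. -/
theorem exists_finite_nhd [QuasiSeparated f] {η : Y} (hη : Unibranch.IsMaxPt η)
    (hfin : (f.base ⁻¹' {η}).Finite) :
    ∃ V : Y.Opens, IsAffineOpen V ∧ η ∈ V ∧ IsFinite (f ∣_ V) := by
  classical
  haveI := hfin.to_subtype
  obtain ⟨V₀, hV₀, hηV, -⟩ := exists_isAffineOpen_mem_and_subset (X := Y) (x := η) (U := ⊤) trivial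
  haveI : Finite (f.fiber η) := (f.fiberHomeo η).toEquiv.finite_iff.mpr hfin.to_subtype
  haveI : DiscreteTopology (f.fiber η) := inferInstance
  have hqf : ∀ x, f x = η → f.QuasiFiniteAt x := fun x hx => by
    subst hx
    exact quasiFiniteAt_of_discrete f inferInstance
  have hsp : ∀ x y, f x = η → f y = η → x ⤳ y → x = y := fun x y hx hy h =>
    eq_of_quasiFiniteAt f (hqf y hy) (hx.trans hy.symm) (Or.inl h)
  have hex : ∀ x : (f.base ⁻¹' {η} : Set X), ∃ W : X.Opens, IsAffineOpen W ∧ x.1 ∈ W ∧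
      W ≤ f ⁻¹ᵁ V₀ ∧ ∀ y : (f.base ⁻¹' {η} : Set X), y.1 ∈ W → y = x := by
    intro x
    let T : Set X := ⋃ y ∈ {y : (f.base ⁻¹' {η} : Set X) | y ≠ x}, closure {y.1}
    have hT : IsClosed T := Set.Finite.isClosed_biUnion (Set.toFinite _) fun _ _ => isClosed_closure
    have hxT : x.1 ∈ (⟨Tᶜ, hT.isOpen_compl⟩ ⊓ f ⁻¹ᵁ V₀ : X.Opens) := by
      refine ⟨fun h => ?_, ?_⟩
      · obtain ⟨y, hy, hyx⟩ := Set.mem_iUnion₂.mp h
        exact hy (Subtype.ext (hsp _ _ y.2 x.2 (specializes_iff_mem_closure.mpr hyx)))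
      · show f x.1 ∈ V₀
        rw [show f x.1 = η from x.2]; exact hηV
    obtain ⟨W, hW, hxW, hle⟩ := exists_isAffineOpen_mem_and_subset hxT
    refine ⟨W, hW, hxW, fun z hz => (hle hz).2, fun y hy => by_contra fun hne => ?_⟩
    exact (hle hy).1 (Set.mem_biUnion (show y ∈ {y | y ≠ x} from hne) (subset_closure rfl))
  choose U hU hxU hUV hUy using hex
  have key : ∀ i j, i ≠ j → ∃ N : Y.Opens, η ∈ N ∧ ∀ z ∈ U i ⊓ U j, f z ∉ N := by
    intro i j hij
    haveI : QuasiSeparatedSpace (f ⁻¹ᵁ V₀).toScheme := by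
      haveI : IsAffine V₀.toScheme := hV₀
      exact quasiSeparatedSpace_of_quasiSeparated (f ∣_ V₀)
    have hc : IsCompact ((U i ⊓ U j : X.Opens) : Set X) := by
      have hqs : IsQuasiSeparated ((f ⁻¹ᵁ V₀ : X.Opens) : Set X) :=
        (isQuasiSeparated_iff_quasiSeparatedSpace _ (f ⁻¹ᵁ V₀).2).mpr ‹_›
      exact hqs (U i : Set X) (U j : Set X) (hUV i) (U i).2 (hU i).isCompact (hUV j) (U j).2 (hU j).isCompact
    haveI : CompactSpace (U i ⊓ U j).toScheme := isCompact_iff_compactSpace.mp hc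
    haveI : IsAffine V₀.toScheme := hV₀
    let g := f.resLE V₀ (U i ⊓ U j) (inf_le_left.trans (hUV i))
    haveI : QuasiCompact g := HasAffineProperty.iff_of_isAffine.mpr ‹_›
    refine ⟨V₀.ι ''ᵁ ⟨(closure (Set.range g))ᶜ, isClosed_closure.isOpen_compl⟩,
      ⟨⟨η, hηV⟩, fun h => ?_, rfl⟩, fun z hz h => ?_⟩
    · obtain ⟨w, hw⟩ := FpqcDescent.exists_specializes_of_mem_closure g h
      have h1 : f w.1 = η := by
        have h2 := hw.map V₀.ι.continuous
        have e : V₀.ι (g w) = f w.1 := f.coe_resLE_apply (e := inf_le_left.trans (hUV i)) w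
        rw [e] at h2
        exact hη _ h2
      exact hij ((hUy i ⟨w.1, h1⟩ w.2.1).symm.trans (hUy j ⟨w.1, h1⟩ w.2.2))
    · obtain ⟨v, hv, hvz⟩ := h
      refine hv (subset_closure ⟨⟨z, hz⟩, V₀.ι.isOpenEmbedding.injective ?_⟩)
      exact (f.coe_resLE_apply (e := inf_le_left.trans (hUV i)) ⟨z, hz⟩).trans hvz.symm
  let P := {p : (f.base ⁻¹' {η} : Set X) × (f.base ⁻¹' {η} : Set X) // p.1 ≠ p.2}
  choose N hηN hN using fun p : P => key p.1.1 p.1.2 p.2
  let N' : Y.Opens := ⟨⋂ p : P, (N p : Set Y), isOpen_iInter_of_finite fun p => (N p).2⟩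
  obtain ⟨V, hV, hηV', -, hVfin⟩ := exists_finite_nhd_of_disjoint f hη hfin hV₀ hηV U hU hUV hxU N'
    (Set.mem_iInter.mpr hηN) fun i j hij => by
      rw [Function.onFun, disjoint_iff_inf_le]
      rintro z ⟨⟨hzi, hzN⟩, hzj, -⟩
      exact hN ⟨(i, j), hij⟩ z ⟨hzi, hzj⟩ (Set.mem_iInter.mp hzN ⟨(i, j), hij⟩)
  exact ⟨V, hV, hηV', hVfin⟩

/-- finitely many components: finite over a dense open -/
theorem exists_dense_finite (hX : (irreducibleComponents (X : Type u)).Finite)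
    (hY : (irreducibleComponents (Y : Type u)).Finite)
    (hgen : ∀ x : X, Unibranch.IsMaxPt x ↔ Unibranch.IsMaxPt (f x)) :
    ∃ V : Y.Opens, Dense (V : Set Y) ∧ IsFinite (f ∣_ V) := by
  classical
  have hfinY : {y : Y | Unibranch.IsMaxPt y}.Finite :=
    Set.Finite.of_finite_image (f := fun y => closure ({y} : Set Y))
      (hY.subset (by rintro _ ⟨y, hy, rfl⟩; exact hy.mem_irreducibleComponents))
      fun a _ b _ h => Unibranch.eq_of_closure_eq h
  have hfinX : {x : X | Unibranch.IsMaxPt x}.Finite :=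
    Set.Finite.of_finite_image (f := fun x => closure ({x} : Set X))
      (hX.subset (by rintro _ ⟨y, hy, rfl⟩; exact hy.mem_irreducibleComponents))
      fun a _ b _ h => Unibranch.eq_of_closure_eq h
  let othX : X → Set X := fun x => ⋃ ξ ∈ {ξ | Unibranch.IsMaxPt ξ ∧ ξ ≠ x}, closure {ξ}
  let othY : Y → Set Y := fun x => ⋃ ξ ∈ {ξ | Unibranch.IsMaxPt ξ ∧ ξ ≠ x}, closure {ξ}
  have hothX : ∀ x, IsClosed (othX x) := fun x =>
    Set.Finite.isClosed_biUnion (hfinX.subset fun _ h => h.1) fun _ _ => isClosed_closure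
  have hothY : ∀ x, IsClosed (othY x) := fun x =>
    Set.Finite.isClosed_biUnion (hfinY.subset fun _ h => h.1) fun _ _ => isClosed_closure
  have hnX : ∀ x, Unibranch.IsMaxPt x → x ∉ othX x := fun x hx h => by
    obtain ⟨ξ, hξ, hξx⟩ := Set.mem_iUnion₂.mp h
    exact hξ.2 (hx ξ (specializes_iff_mem_closure.mpr hξx))
  have hnY : ∀ x, Unibranch.IsMaxPt x → x ∉ othY x := fun x hx h => by
    obtain ⟨ξ, hξ, hξx⟩ := Set.mem_iUnion₂.mp h
    exact hξ.2 (hx ξ (specializes_iff_mem_closure.mpr hξx))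
  have key : ∀ η : {y : Y | Unibranch.IsMaxPt y}, ∃ V : Y.Opens, η.1 ∈ V ∧
      (∀ z ∈ V, z ∉ othY η.1) ∧ IsFinite (f ∣_ V) := by
    rintro ⟨η, hη⟩
    have hfib : ∀ x : (f.base ⁻¹' {η} : Set X), Unibranch.IsMaxPt x.1 := fun x =>
      (hgen x.1).2 (by rw [show f x.1 = η from x.2]; exact hη)
    have hfin : (f.base ⁻¹' {η}).Finite := hfinX.subset fun x hx => hfib ⟨x, hx⟩
    obtain ⟨V₀, hV₀, hηV, -⟩ := exists_isAffineOpen_mem_and_subset (X := Y) (x := η) (U := ⊤) trivial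
    have hex : ∀ x : (f.base ⁻¹' {η} : Set X), ∃ W : X.Opens, IsAffineOpen W ∧ x.1 ∈ W ∧
        W ≤ f ⁻¹ᵁ V₀ ∧ ∀ z ∈ W, z ∉ othX x.1 := by
      intro x
      have hxT : x.1 ∈ (⟨(othX x.1)ᶜ, (hothX x.1).isOpen_compl⟩ ⊓ f ⁻¹ᵁ V₀ : X.Opens) := by
        refine ⟨hnX _ (hfib x), ?_⟩
        show f x.1 ∈ V₀
        rw [show f x.1 = η from x.2]; exact hηV
      obtain ⟨W, hW, hxW, hle⟩ := exists_isAffineOpen_mem_and_subset hxT
      exact ⟨W, hW, hxW, fun z hz => (hle hz).2, fun z hz => (hle hz).1⟩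
    choose U hU hxU hUV hUo using hex
    obtain ⟨V, -, hηV', hVN, hVfin⟩ := exists_finite_nhd_of_disjoint f hη hfin hV₀ hηV U hU hUV hxU
      ⟨(othY η)ᶜ, (hothY η).isOpen_compl⟩ (hnY η hη) fun i j hij => by
        rw [Function.onFun, disjoint_iff_inf_le]
        rintro z ⟨⟨hzi, -⟩, hzj, -⟩
        obtain ⟨ζ, hζ, hζz⟩ := Unibranch.exists_isMaxPt_specializes z
        have hi : ζ = i.1 := by_contra fun hne => hUo i z hzi
          (Set.mem_biUnion (show ζ ∈ {ξ | Unibranch.IsMaxPt ξ ∧ ξ ≠ i.1} from ⟨hζ, hne⟩) hζz.mem_closure)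
        have hj : ζ = j.1 := by_contra fun hne => hUo j z hzj
          (Set.mem_biUnion (show ζ ∈ {ξ | Unibranch.IsMaxPt ξ ∧ ξ ≠ j.1} from ⟨hζ, hne⟩) hζz.mem_closure)
        exact hij (Subtype.ext (hi.symm.trans hj))
    exact ⟨V, hηV', fun z hz => hVN hz, hVfin⟩
  choose V hηV hVo hVfin using key
  refine ⟨⨆ η, V η, ?_, ?_⟩
  · rw [dense_iff_closure_eq, Set.eq_univ_iff_forall]
    intro y
    obtain ⟨η, hη, hηy⟩ := Unibranch.exists_isMaxPt_specializes y
    exact hηy.mem_closed isClosed_closure (subset_closure (Opens.mem_iSup.mpr ⟨⟨η, hη⟩, hηV ⟨η, hη⟩⟩))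
  · let W := ⨆ η, V η
    refine IsZariskiLocalAtTarget.of_iSup_eq_top (fun η => W.ι ⁻¹ᵁ V η) ?_ fun η => ?_
    · rw [← Scheme.Hom.preimage_iSup]
      ext z
      exact ⟨fun _ => trivial, fun _ => z.2⟩
    · refine ((MorphismProperty.arrow_mk_iso_iff @IsFinite (morphismRestrictRestrict f W _ ≪≫
        morphismRestrictEq f ?_))).mpr (hVfin η)
      rw [Scheme.Hom.image_preimage_eq_opensRange_inf, Scheme.Opens.opensRange_ι]
      exact inf_eq_right.mpr (le_iSup V η)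

end Groth.Agent.GenFibre
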