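import Groth.Agent.Unibranch.ComponentDim
import Mathlib

/-! # fibres over maximal points -/

set_option autoImplicit false
set_option backward.isDefEq.respectTransparency false

universe u

open CategoryTheory CategoryTheory.Limits AlgebraicGeometry TopologicalSpace

namespace Groth.Agent.GenFibre

/-- A Noetherian sober T1 space is finite. -/
theorem finite_of_noetherian_t1 {X : Type*} [TopologicalSpace X] [NoetherianSpace X] [T1Space X]
    [QuasiSober X] : Finite X := by
  obtain ⟨S, hSf, hSc, hSi, hSU⟩ :=
    TopologicalSpace.NoetherianSpace.exists_finite_set_isClosed_irreducible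
      (isClosed_univ (X := X))
  refine Set.finite_univ_iff.mp (hSU ▸ hSf.sUnion fun Z hZ => ?_)
  refine Set.Subsingleton.finite ?_
  obtain ⟨a, ha⟩ := QuasiSober.sober (hSi Z hZ) (hSc Z hZ)
  rw [← ha.def, (isClosed_singleton (x := a)).closure_eq]
  exact Set.subsingleton_singleton

theorem discreteTopology_of_t1 (X : Scheme.{u}) [IsLocallyNoetherian X] [T1Space X] :
    DiscreteTopology X := by
  refine discreteTopology_iff_isOpen_singleton.mpr fun x => ?_
  obtain ⟨U, hU, hx, -⟩ := exists_isAffineOpen_mem_and_subset (X := X) (x := x) (U := ⊤) trivial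
  haveI : IsAffine U.toScheme := hU
  haveI : AlgebraicGeometry.IsNoetherian U.toScheme := { }
  haveI : T1Space U.toScheme := inferInstanceAs (T1Space (U : Set X))
  haveI : Finite U.toScheme := finite_of_noetherian_t1
  have : DiscreteTopology U.toScheme := inferInstance
  have h := U.ι.isOpenEmbedding.isOpenMap _ (@isOpen_discrete U.toScheme _ this {(⟨x, hx⟩ : U.toScheme)})
  simpa using h

variable {X Y : Scheme.{u}} (f : X ⟶ Y) {η : Y} (hη : Unibranch.IsMaxPt η)

include hη in
theorem isMaxPt_iff {x : X} (hx : f x = η) :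
    Unibranch.IsMaxPt x ↔ ∀ z, f z = η → z ⤳ x → z = x := by
  refine ⟨fun h z _ hz => h z hz, fun h z hz => h z (hη _ ?_) hz⟩
  exact hx ▸ hz.map f.continuous

theorem isMaxPt_iff_mem (x : X) :
    Unibranch.IsMaxPt x ↔ closure {x} ∈ irreducibleComponents (X : Type u) := by
  refine ⟨fun h => h.mem_irreducibleComponents, fun h => ?_⟩
  obtain ⟨ζ, hζ, e⟩ := Unibranch.exists_isMaxPt h
  rwa [← Unibranch.eq_of_closure_eq e]

variable [LocallyOfFiniteType f]

theorem discrete_of_max (η : Y) (h : ∀ x : X, f x = η → ∀ z, f z = η → z ⤳ x → z = x) :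
    DiscreteTopology (f.fiber η) := by
  haveI : T1Space (f.fiber η) := ⟨fun a => by
    refine closure_eq_iff_isClosed.mp (subset_antisymm (fun b hb => ?_) subset_closure)
    have hab : a ⤳ b := specializes_iff_mem_closure.mpr hb
    have h1 : ((f.fiberHomeo η a).1 : X) ⤳ (f.fiberHomeo η b).1 :=
      (hab.map (f.fiberHomeo η).continuous).map continuous_subtype_val
    have h2 := h _ (f.fiberHomeo η b).2 _ (f.fiberHomeo η a).2 h1
    exact ((f.fiberHomeo η).injective (Subtype.ext h2)).symm⟩
  haveI : LocallyOfFiniteType (f.fiberToSpecResidueField η) :=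
    MorphismProperty.pullback_snd _ _ inferInstance
  haveI : IsLocallyNoetherian (f.fiber η) :=
    LocallyOfFiniteType.isLocallyNoetherian (f.fiberToSpecResidueField η)
  exact discreteTopology_of_t1 _

/-- A quasi-finite point is alone in its component of the fibre. -/
theorem eq_of_quasiFiniteAt {x z : X} (hx : f.QuasiFiniteAt x) (hfz : f z = f x)
    (h : z ⤳ x ∨ x ⤳ z) : z = x := by
  have hc := hx.isClopen_singleton_asFiber
  let z' : f.fiber (f x) := (f.fiberHomeo (f x)).symm ⟨z, hfz⟩
  have hz' : z' ∈ ({f.asFiber x} : Set (f.fiber (f x))) := by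
    rcases h with h | h
    · refine Specializes.mem_open ?_ hc.isOpen rfl
      exact (Topology.IsInducing.subtypeVal.specializes_iff.mp h :
        (⟨z, hfz⟩ : f ⁻¹' {f x}) ⤳ ⟨x, rfl⟩).map (f.fiberHomeo (f x)).symm.continuous
    · refine Specializes.mem_closed ?_ hc.isClosed rfl
      exact (Topology.IsInducing.subtypeVal.specializes_iff.mp h :
        (⟨x, rfl⟩ : f ⁻¹' {f x}) ⤳ ⟨z, hfz⟩).map (f.fiberHomeo (f x)).symm.continuous
  have h2 := congrArg (f.fiberHomeo (f x)) hz'
  rw [Scheme.Hom.asFiber, Homeomorph.apply_symm_apply, Homeomorph.apply_symm_apply] at h2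
  exact congrArg Subtype.val h2

theorem quasiFiniteAt_of_discrete {x : X} (h : DiscreteTopology (f.fiber (f x))) :
    f.QuasiFiniteAt x :=
  (f.quasiFiniteAt_iff_isOpen_singleton_asFiber (x := x)).mpr (isOpen_discrete _)

end Groth.Agent.GenFibre
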